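import Groth.Agent.NakaiLib.Finite
import Groth.Agent.HilbPolyLib.Basic
import Groth.Agent.HilbPolyLib.Snapper

/-!
# The Nakai–Moishezon criterion
-/

set_option autoImplicit false
set_option linter.style.haveILetI false
universe u

open CategoryTheory CategoryTheory.Limits AlgebraicGeometry TopologicalSpace
open KFlatLib (pb)
open AmpleThLib (tensorPow_isInvertible)

noncomputable section

namespace NakaiLib

variable {k : Type u} [Field k] {X : Scheme.{u}} [X.Over (Spec (CommRingCat.of k))]
  [IsProper (X ↘ Spec (CommRingCat.of k))]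

omit [X.Over (Spec (CommRingCat.of k))] [IsProper (X ↘ Spec (CommRingCat.of k))] in
theorem eq_unitHom {M : X.Modules} (φ : Coh.structureModule X ⟶ M) :
    φ = QCohLib.unitHom M (φ.app ⊤ (1 : Γ(X, ⊤))) := by
  refine Eq.trans ?_ (QCohLib.app_unitHom_app φ _)
  have : QCohLib.unitHom (Coh.structureModule X) (1 : Γ(X, ⊤)) = 𝟙 _ := by
    apply Scheme.Modules.hom_ext
    intro V
    refine ConcreteCategory.hom_ext _ _ fun r => ?_
    refine Eq.trans (QCohLib.unitHom_app (Coh.structureModule X) _ V r) ?_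
    change (show Γ(X, V) from r) * X.presheaf.map (homOfLE (le_top : V ≤ ⊤)).op (1 : Γ(X, ⊤)) = r
    exact (congrArg ((show Γ(X, V) from r) * ·) (map_one _)).trans (mul_one _)
  exact ((congrArg (· ≫ φ) this).trans (Category.id_comp φ)).symm

variable (k) in
/-- On every integral closed subscheme the top coefficient of `χ(L^n)` is positive. -/
def NakaiPos (L : X.Modules) : Prop :=
  ∀ (W : Scheme.{u}) (i : W ⟶ X), IsClosedImmersion i → IsIntegral W → ∀ e : ℕ, 0 < e →
    topologicalKrullDim W = (e : WithBot ℕ∞) → ∀ p : Polynomial ℚ, p.natDegree ≤ e →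
    (∀ n : ℕ, (@Curv2.euler k _ W ⟨i ≫ (X ↘ Spec (CommRingCat.of k))⟩
      (CohB1.tensorPow (pb i L) n) : ℚ) = p.eval (n : ℚ)) → 0 < p.coeff e

theorem exists_poly {W : Scheme.{u}} [W.Over (Spec (CommRingCat.of k))]
    [IsProper (W ↘ Spec (CommRingCat.of k))] {L : W.Modules} (hL : PicF.IsInvertible L) {e : ℕ}
    (he : topologicalKrullDim W ≤ (e : ℕ)) :
    ∃ p : Polynomial ℚ, p.natDegree ≤ e ∧
      ∀ n : ℕ, (Curv2.euler k W (CohB1.tensorPow L n) : ℚ) = p.eval (n : ℚ) := by
  haveI := CurvLib.isNoetherian k (X := W)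
  obtain ⟨p, hp, hp'⟩ := HilbPolyLib.exists_isHilbPoly (k := k) hL (DevissLib.isCoh_structureModule W)
    (d := e + 1) (((topologicalKrullDim_subspace_le _ _).trans he).trans_lt (by exact_mod_cast Nat.lt_succ_self e))
  refine ⟨p, ?_, fun n => ?_⟩
  · by_cases h0 : p = 0
    · simp [h0]
    · exact Nat.lt_succ_iff.mp ((Polynomial.natDegree_lt_iff_degree_lt h0).mpr (by exact_mod_cast hp))
  · rw [← hp' n, HilbPolyLib.euler_twist]
    exact congrArg Int.cast (CurvLib.euler_congr
      (HilbPolyLib.swapIso (CohB1.tensorPow L n) (Coh.structureModule W) ≪≫ HilbPolyLib.unitLeft _).symm)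

/-- Powers of a trivial power of an invertible module have the Euler characteristic of `O`. -/
theorem euler_mul_eq {W : Scheme.{u}} [W.Over (Spec (CommRingCat.of k))] {L : W.Modules}
    (hL : PicF.IsInvertible L) {c : ℕ} (e : Coh.structureModule W ≅ CohB1.tensorPow L c) : ∀ j : ℕ,
    Curv2.euler k W (CohB1.tensorPow L (c * j)) = Curv2.euler k W (Coh.structureModule W) ∧
      Nonempty (CohB1.tensorPow L (c * j) ≅ Coh.structureModule W) := by
  intro j
  suffices h : Nonempty (CohB1.tensorPow L (c * j) ≅ Coh.structureModule W) from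
    ⟨CurvLib.euler_congr h.some, h⟩
  induction j with
  | zero => exact ⟨Iso.refl _⟩
  | succ j ih =>
    obtain ⟨f⟩ := ih
    obtain ⟨g⟩ := IntMultLib.nonempty_tensorPow_add L (c * j) c
    exact ⟨g ≪≫ HilbPolyLib.congrLeft f _ ≪≫ HilbPolyLib.unitLeft _ ≪≫ e.symm⟩

theorem core {L : X.Modules} (hL : PicF.IsInvertible L) (hpos : NakaiPos k L) :
    ∀ (e : ℕ) (W : Scheme.{u}) (i : W ⟶ X), IsClosedImmersion i → IsIntegral W →
      topologicalKrullDim W = (e : WithBot ℕ∞) → CohB1.IsAmple (pb i L) := by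
  intro e
  induction e using Nat.strong_induction_on with
  | _ e IH =>
  intro W i hi hW hdim
  haveI := hi
  haveI := hW
  letI : W.Over (Spec (CommRingCat.of k)) := ⟨i ≫ (X ↘ Spec (CommRingCat.of k))⟩
  haveI : IsProper (W ↘ Spec (CommRingCat.of k)) :=
    inferInstanceAs (IsProper (i ≫ (X ↘ Spec (CommRingCat.of k))))
  haveI := CurvLib.isNoetherian k (X := W)
  let L' := pb i L
  have hL' : PicF.IsInvertible L' := AmpleDevLib.isInvertible_pb i hL
  rcases Nat.eq_zero_or_pos e with rfl | he
  · haveI : IsLocallyArtinian W := IsLocallyArtinian.of_topologicalKrullDim_le_zero hdim.le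
    haveI : IsArtinianScheme W := {}
    haveI : IsAffine W := inferInstance
    exact AmpleThLib.isAmple_of_isQuasiAffine hL'
  have hb : AmpleBelow L' := by
    intro W' l hl hW' hr
    haveI := hl
    haveI := hW'
    have hη : genericPoint W ∉ Set.range l := fun h => hr (Set.eq_univ_of_forall fun y =>
      ((genericPoint_spec W).specializes trivial).mem_closed l.isClosedEmbedding.isClosed_range h)
    have h1 := HilbPolyLib.dim_lt_of_notMem (η := genericPoint W) (Y := (Set.univ : Set W))
      l.isClosedEmbedding.isClosed_range (fun y _ => (genericPoint_spec W).def.ge trivial) hη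
      (Set.subset_univ _) (d := e) (((topologicalKrullDim_subspace_le _ _).trans hdim.le).trans_lt
        (by exact_mod_cast Nat.lt_succ_self e))
    have h2 : topologicalKrullDim W' < ((e : ℕ) : WithBot ℕ∞) :=
      (l.isEmbedding.toHomeomorph.isHomeomorph.topologicalKrullDim_eq).trans_lt h1
    obtain ⟨e', he', he''⟩ : ∃ e' : ℕ, e' < e ∧ topologicalKrullDim W' = (e' : WithBot ℕ∞) := by
      have h0 : topologicalKrullDim W' ≠ ⊥ := fun h => by
        rw [topologicalKrullDim, Order.krullDim_eq_bot_iff] at h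
        exact h.false ⟨closure {genericPoint W'}, isIrreducible_singleton.closure, isClosed_closure⟩
      revert h2 h0
      generalize topologicalKrullDim W' = t
      intro h2 h0
      induction t with
      | bot => exact absurd rfl h0
      | coe a =>
        induction a with
        | top => exact absurd h2 (by simp)
        | coe m => exact ⟨m, by exact_mod_cast h2, rfl⟩
    refine AmpleDevLib.isAmple_of_iso (AmpleDevLib.isInvertible_pb (l ≫ i) hL)
      (AmpleDevLib.isInvertible_pb l hL') ((Scheme.Modules.pullbackComp l i).app L).symm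
      (IH e' he' W' (l ≫ i) inferInstance hW' he'')
  obtain ⟨p, hpd, hp⟩ := exists_poly (k := k) hL' hdim.le
  have hlead := hpos W i hi hW e he hdim p hpd hp
  have hgrow : ∀ C : ℤ, ∃ N, ∀ n, N ≤ n → C < Curv2.euler k W (CohB1.tensorPow L' n) := by
    have hdeg : p.natDegree = e := le_antisymm hpd (Polynomial.le_natDegree_of_ne_zero hlead.ne')
    have ht : Filter.Tendsto (fun n : ℕ => p.eval (n : ℚ)) Filter.atTop Filter.atTop := by
      refine (p.tendsto_atTop_of_leadingCoeff_nonneg ?_ ?_).comp tendsto_natCast_atTop_atTop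
      · exact Polynomial.natDegree_pos_iff_degree_pos.mp (hdeg ▸ he)
      · rw [Polynomial.leadingCoeff, hdeg]; exact hlead.le
    intro C
    obtain ⟨N, hN⟩ := Filter.eventually_atTop.mp (ht.eventually_gt_atTop (C : ℚ))
    refine ⟨N, fun n hn => ?_⟩
    have h := hN n hn
    rw [← hp n] at h
    exact_mod_cast h
  obtain ⟨n₁, φ, hn₁, hφ⟩ := exists_section (k := k) hL' hb hgrow
  let N := CohB1.tensorPow L' n₁
  have hN : PicF.IsInvertible N := tensorPow_isInvertible hL' n₁
  have hbN : ∀ {A : W.Modules} (hA : PicF.IsInvertible A), AmpleBelow A → ∀ m, 0 < m →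
      AmpleBelow (CohB1.tensorPow A m) := by
    intro A hA hbA m hm W' l hl hW' hr
    obtain ⟨ψ, -⟩ := AmpleDevLib.exists_pullPowIso l hA m
    exact AmpleDevLib.isAmple_of_iso (tensorPow_isInvertible (AmpleDevLib.isInvertible_pb l hA) m)
      (AmpleDevLib.isInvertible_pb l (tensorPow_isInvertible hA m)) ψ.symm
      ((AmpleThLib.isAmple_tensorPow_iff (hL := AmpleDevLib.isInvertible_pb l hA) hm).mp
        (hbA W' l hl hW' hr))
  let σ := φ.app ⊤ (1 : Γ(W, ⊤))
  have hφσ : QCohLib.unitHom N σ ≠ 0 := fun h => hφ ((eq_unitHom φ).trans h)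
  obtain ⟨a, m, v, ha, hv⟩ := exists_gens (k := k) hN fun x hx =>
    exists_gen_closed (k := k) hN (hbN hL' hb n₁ hn₁) σ hφσ hx
  have htriv : IsEmpty (Coh.structureModule W ≅ CohB1.tensorPow N a) := by
    refine ⟨fun f => ?_⟩
    obtain ⟨g, -⟩ := AmpleThLib.exists_powIso hL' n₁ a
    obtain ⟨B, hB⟩ := hgrow (Curv2.euler k W (Coh.structureModule W))
    have h := hB (n₁ * a * B) (Nat.le_mul_of_pos_left _ (Nat.mul_pos hn₁ ha))
    rw [(euler_mul_eq (k := k) hL' (f ≪≫ g) B).1] at h
    exact lt_irrefl _ h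
  have hM := isAmple_of_gens (k := k) (tensorPow_isInvertible hN a) (hbN hN (hbN hL' hb n₁ hn₁) a ha)
    htriv v hv
  exact (AmpleThLib.isAmple_tensorPow_iff (hL := hL') hn₁).mpr
    ((AmpleThLib.isAmple_tensorPow_iff (hL := hN) ha).mpr hM)

/-- **Nakai–Moishezon.** -/
theorem isAmple_of_pos {L : X.Modules} (hL : PicF.IsInvertible L) (hpos : NakaiPos k L) :
    CohB1.IsAmple L := by
  refine AmpleDevLib.isAmple_of_integral (X ↘ Spec (CommRingCat.of k)) hL fun W i hi hW => ?_
  haveI := hi
  haveI := hW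
  letI : W.Over (Spec (CommRingCat.of k)) := ⟨i ≫ (X ↘ Spec (CommRingCat.of k))⟩
  haveI : IsProper (W ↘ Spec (CommRingCat.of k)) :=
    inferInstanceAs (IsProper (i ≫ (X ↘ Spec (CommRingCat.of k))))
  obtain ⟨D, hD⟩ := HilbPolyLib.exists_dim_lt k (X := W)
  obtain ⟨e, he⟩ : ∃ e : ℕ, topologicalKrullDim W = (e : WithBot ℕ∞) := by
    have h0 : topologicalKrullDim W ≠ ⊥ := fun h => by
      rw [topologicalKrullDim, Order.krullDim_eq_bot_iff] at h
      exact h.false ⟨closure {genericPoint W}, isIrreducible_singleton.closure, isClosed_closure⟩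
    revert hD h0
    generalize topologicalKrullDim W = t
    intro h2 h0
    induction t with
    | bot => exact absurd rfl h0
    | coe a =>
      induction a with
      | top => exact absurd h2 (by simp)
      | coe m => exact ⟨m, rfl⟩
  exact core hL hpos e W i hi hW he

end NakaiLib
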