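import Groth.Agent.NakaiLib.Stab
import Groth.Agent.IntMultLib.Positive
import Groth.Agent.IntMultLib.Dim0
import Groth.Agent.CurvLib.StalkSum

/-!
# Generation of high powers by global sections
-/

set_option autoImplicit false
set_option linter.style.haveILetI false
universe u

open CategoryTheory CategoryTheory.Limits AlgebraicGeometry TopologicalSpace
open KFlatLib (pb tens)
open CurvLib (hMap hDel)
open DevissLib
open TwistLib (genSet)

noncomputable section

namespace NakaiLib

variable {X : Scheme.{u}}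

theorem genAt_of_not_killed {M C : X.Modules} (hM : PicF.IsInvertible M) (γ : M ⟶ C) {x : X}
    (hC : ∀ r ∈ IsLocalRing.maximalIdeal (X.presheaf.stalk x), ∀ c : (St x).obj C, r • c = 0)
    (t : Γ(M, ⊤))
    (ht : ((St x).map γ).hom (gm M x (show x ∈ (⊤ : X.Opens) from trivial) t) ≠ 0) :
    x ∈ genSet hM t := by
  obtain ⟨U, e, hxU, he⟩ := TwistLib.exists_genOn hM x
  obtain ⟨f, hf⟩ := (he U le_rfl).2 (AmpleLib.res M (le_top : U ≤ ⊤) t)
  dsimp only at hf
  by_contra hng
  have hfx : ¬ IsUnit (X.presheaf.germ U x hxU f) := fun hu => hng (by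
    have h1 : AmpleLib.GenAt M (f • AmpleLib.res M (le_refl U) e) hxU :=
      (AmpleLib.genAt_smul_iff f _ hxU ((he.res le_rfl).genAt hxU)).mpr ((X.mem_basicOpen f x hxU).mpr hu)
    rw [hf] at h1
    exact (AmpleLib.genAt_res (le_top : U ≤ ⊤) t hxU).mp h1)
  refine ht ?_
  rw [show gm M x (show x ∈ (⊤ : X.Opens) from trivial) t =
      X.presheaf.germ U x hxU f • gm M x hxU (AmpleLib.res M (le_refl U) e) from
    (gm_map M le_top x hxU t).symm.trans ((congrArg (gm M x hxU) hf.symm).trans (gm_smul M x hxU _ _)),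
    map_smul]
  exact hC _ ((IsLocalRing.mem_maximalIdeal _).mpr hfx) _

variable {k : Type u} [Field k] [X.Over (Spec (CommRingCat.of k))]
  [IsProper (X ↘ Spec (CommRingCat.of k))]

omit [IsProper (X ↘ Spec (CommRingCat.of k))] in
theorem hhZeroEquiv_map {M N : X.Modules} (g : M ⟶ N) (x : Coh.HH X M 0) :
    letI := CurvLib.secModule (k := k) M
    letI := CurvLib.secModule (k := k) N
    CurvLib.hhZeroEquiv (k := k) N (hMap (k := k) g 0 x) = g.app ⊤ (CurvLib.hhZeroEquiv (k := k) M x) := by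
  change QCohLib.h0 (QCohLib.hEquiv _ 0 (Sheaf.H.map ((QCohLib.toAbF X).map g) 0 x)) = _
  rw [QCohLib.hEquiv_map, QCohLib.h0_comp]
  rfl

omit [IsProper (X ↘ Spec (CommRingCat.of k))] in
theorem surjective_h0 {S : ShortComplex X.Modules} (hS : S.ShortExact)
    (h : Subsingleton (Coh.HH X S.X₁ 1) ∨ Function.Injective (hMap (k := k) S.f 1)) :
    Function.Surjective (hMap (k := k) S.g 0) := by
  rw [← LinearMap.range_eq_top, CurvLib.exact₃ hS 0, LinearMap.ker_eq_top]
  refine LinearMap.ext fun x => ?_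
  rcases h with h | h
  · exact Subsingleton.elim _ _
  · have h1 : hDel (k := k) hS 0 x ∈ LinearMap.ker (hMap (k := k) S.f 1) :=
      (CurvLib.exact₁ hS 0).le ⟨x, rfl⟩
    exact h ((LinearMap.mem_ker.mp h1).trans (map_zero _).symm)

variable [IsIntegral X] {N : X.Modules} (hN : PicF.IsInvertible N) (hb : AmpleBelow N)

include k hN hb in
theorem exists_gen_closed (σ : Γ(N, ⊤)) (hφ : QCohLib.unitHom N σ ≠ 0) {x : X}
    (hx : IsClosed ({x} : Set X)) :
    ∃ (a : ℕ) (t : Γ(CohB1.tensorPow N a, ⊤)), 0 < a ∧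
      x ∈ genSet (AmpleThLib.tensorPow_isInvertible hN a) t := by
  by_cases hxσ : x ∈ genSet hN σ
  · let e : N ≅ CohB1.tensorPow N 1 := (HilbPolyLib.unitLeft N).symm
    exact ⟨1, e.hom.app ⊤ σ, Nat.one_pos,
      (AmpleThLib.genSet_iso hN _ e σ).symm ▸ hxσ⟩
  haveI := CurvLib.isNoetherian k (X := X)
  let φ := QCohLib.unitHom N σ
  let O := Coh.structureModule X
  have hO : PicF.IsInvertible O := CurvLib.isInvertible_structureModule
  have hNc := CurvLib.isCoh_of_isInvertible hN
  haveI : Mono φ := CurvLib.mono_of_ne_zero hO hN hφ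
  let Q := cokernel φ
  have hQ : Coh.IsCoh Q := QCohLib.isCoh_cokernel φ (isCoh_structureModule X).1 hNc
  have hQη : genericPoint X ∉ CohB1.support Q := CurvLib.generic_notMem_support_cokernel hO hN hφ
  have hS : (ShortComplex.mk φ (cokernel.π φ) (cokernel.condition φ)).ShortExact :=
    { exact := ShortComplex.exact_of_g_is_cokernel _ (cokernelIsCokernel φ)
      mono_f := inferInstanceAs (Mono φ)
      epi_g := inferInstanceAs (Epi (cokernel.π φ)) }
  -- the residue module at `x`
  let J := IntMultLib.ptIdeal x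
  let q := ClSub.quotMod J
  obtain ⟨hqc, hqs, ⟨eq⟩⟩ := IntMultLib.generator x
  rw [hx.closure_eq] at hqs
  have hqk : ∀ r ∈ IsLocalRing.maximalIdeal (X.presheaf.stalk x), ∀ c : (St x).obj q, r • c = 0 := by
    intro r hr c
    refine eq.injective (Eq.trans ?_ (map_zero eq).symm)
    refine (map_smul eq r c).trans ?_
    refine (Algebra.smul_def r (eq c)).trans ?_
    rw [IsLocalRing.ResidueField.algebraMap_eq, (IsLocalRing.residue_eq_zero_iff r).mpr hr, zero_mul]
  let T : ℕ → X.Modules := fun n => CohB1.tensorPow N n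
  have hTn := fun n => AmpleThLib.tensorPow_isInvertible hN n
  have hTf := fun n => AmpleDevLib.isFinLocFree_of_isInvertible (hTn n)
  have hNf := AmpleDevLib.isFinLocFree_of_isInvertible hN
  let C : X.Modules := tens N q
  let u : N ≅ tens N O := (HilbPolyLib.swapIso N O ≪≫ HilbPolyLib.unitLeft N).symm
  let β : N ⟶ C := u.hom ≫ (ProjFormLib.tF N).map (ClSub.toSubscheme J)
  haveI : Epi ((ProjFormLib.tF N).map (ClSub.toSubscheme J)) :=
    (ProjFormLib.shortExact_tens hNf (CurvLib.idealSeq_shortExact J)).epi_g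
  haveI : Epi β := epi_comp _ _
  -- the stalks of the twists of `C`
  have hst : ∀ (A : X.Modules), PicF.IsInvertible A → ∀ (y : X),
      Nonempty ((St y).obj (tens A C) ≃ₗ[X.presheaf.stalk y] (Fin 1 → (St y).obj q)) := by
    intro A hA y
    obtain ⟨e⟩ := CurvLib.nonempty_stalk_tensor_locFree
      (CurvLib.locFree_of_isInvertible (AmpleThLib.shT_isInvertible hA hN)) q y
    exact ⟨((St y).mapIso ((HilbPolyLib.assocIso A N q).symm ≪≫ HilbPolyLib.swapIso _ q)).toLinearEquiv ≪≫ₗ e⟩
  have hkill : ∀ (A : X.Modules), PicF.IsInvertible A →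
      ∀ r ∈ IsLocalRing.maximalIdeal (X.presheaf.stalk x), ∀ c : (St x).obj (tens A C), r • c = 0 := by
    intro A hA r hr c
    obtain ⟨e⟩ := hst A hA x
    refine e.injective ?_
    rw [map_zero]
    refine (map_smul e r c).trans (funext fun i => ?_)
    exact hqk r hr _
  have hsupp : ∀ (A : X.Modules), PicF.IsInvertible A → CohB1.support (tens A C) = {x} := by
    intro A hA
    rw [← hqs]
    ext y
    obtain ⟨e⟩ := hst A hA y
    exact not_congr (e.toEquiv.trans (Equiv.funUnique (Fin 1) ((St y).obj q))).subsingleton_congr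
  have hCsupp : CohB1.support C = {x} := by
    rw [← hsupp O hO]
    exact (le_antisymm (support_iso (KFlatLib.tensUnitIso C).symm).le (support_iso (KFlatLib.tensUnitIso C)).le)
  have hCk : ∀ r ∈ IsLocalRing.maximalIdeal (X.presheaf.stalk x), ∀ c : (St x).obj C, r • c = 0 := by
    intro r hr c
    let e := ((St x).mapIso (KFlatLib.tensUnitIso C).symm).toLinearEquiv
    refine e.injective ?_
    rw [map_zero]
    exact (map_smul e r c).trans (hkill O hO r hr _)
  -- `σ` vanishes at `x`
  have hβ0 : φ ≫ β = 0 := by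
    refine CurvLib.eq_zero_of_stalks _ fun y => ?_
    refine LinearMap.ext fun a => ?_
    rw [Functor.map_comp, ModuleCat.hom_comp, LinearMap.comp_apply, LinearMap.zero_apply]
    by_cases hy : y = x
    · subst hy
      obtain ⟨W, hyW, r, rfl⟩ := exists_gm_eq _ y a
      rw [gm_app]
      have h0 : ((St y).map β).hom (gm N y (show y ∈ (⊤ : X.Opens) from trivial) σ) = 0 := by
        by_contra h
        exact hxσ (genAt_of_not_killed hN β hCk σ h)
      have h1 : gm N y hyW (φ.app W r) = X.presheaf.germ W y hyW (show Γ(X, W) from r) •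
          gm N y (show y ∈ (⊤ : X.Opens) from trivial) σ :=
        (congrArg (gm N y hyW) (QCohLib.unitHom_app N σ W r)).trans
          ((gm_smul N y hyW _ _).trans (congrArg (_ • ·) (gm_map N le_top y hyW σ)))
      rw [h1, map_smul, h0, smul_zero]
    · have hs : Subsingleton ((St y).obj C) := not_not.mp fun h => hy (hCsupp.le h)
      exact Subsingleton.elim _ _
  let γ : Q ⟶ C := cokernel.desc φ β hβ0
  haveI : Epi γ := epi_of_epi_fac (cokernel.π_desc φ β hβ0)
  let K := kernel γ
  have hqCoh : Coh.IsCoh C := QCohLib.isCoh_of_iso (HilbPolyLib.swapIso q N) (SerreVanLib.isCoh_tensor hqc hN)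
  have hK : Coh.IsCoh K := QCohLib.isCoh_kernel γ hQ hqCoh.1
  have hKη : genericPoint X ∉ CohB1.support K := fun h => hQη (support_mono (kernel.ι γ) h)
  have hS' : (ShortComplex.mk (kernel.ι γ) γ (kernel.condition γ)).ShortExact :=
    { exact := ShortComplex.exact_of_f_is_kernel _ (kernelIsKernel γ)
      mono_f := inferInstanceAs (Mono (kernel.ι γ))
      epi_g := inferInstanceAs (Epi γ) }
  obtain ⟨nK, hnK⟩ := evVanish_of_notMem (k := k) hN hb hK hKη
  obtain ⟨nQ, hnQ⟩ := evVanish_of_notMem (k := k) hN hb hQ hQη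
  have hSn := fun n => ProjFormLib.shortExact_tens (hTf n) hS
  have hS'n := fun n => ProjFormLib.shortExact_tens (hTf n) hS'
  -- the first cohomology stabilizes
  let h : ℕ → ℕ := fun n => Module.finrank k (Coh.HH X (T n) 1)
  have hsur1 : ∀ n, nQ ≤ n → Function.Surjective (hMap (k := k) ((ProjFormLib.tF (T n)).map φ) 1) := by
    intro n hn
    refine LinearMap.range_eq_top.mp ((CurvLib.exact₂ (k := k) (hSn n) 1).trans (LinearMap.ker_eq_top.mpr ?_))
    exact LinearMap.ext fun x => @Subsingleton.elim _ (hnQ n hn 1 one_pos) _ _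
  have hfin : ∀ n, Module.Finite k (Coh.HH X (tens (T n) O) 1) := fun n =>
    CurvLib.finite_HH (QCohLib.isCoh_of_iso (HilbPolyLib.swapIso O (T n))
      (SerreVanLib.isCoh_tensor (isCoh_structureModule X) (hTn n))) 1
  have hOh : ∀ n, Module.finrank k (Coh.HH X (tens (T n) O) 1) = h n := fun n =>
    (CurvLib.hIso (k := k) (HilbPolyLib.swapIso (T n) O ≪≫ HilbPolyLib.unitLeft (T n)) 1).finrank_eq
  have hanti : ∀ n, nQ ≤ n → h (n + 1) ≤ h n := fun n hn => by
    rw [← hOh n]
    haveI := hfin n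
    exact LinearMap.finrank_le_finrank_of_surjective (hsur1 n hn)
  have hex : ∃ n, max nK nQ ≤ n ∧ h (n + 1) = h n := by
    classical
    obtain ⟨m, hm⟩ : ∃ m, ∀ j, h (max nK nQ + m) ≤ h (max nK nQ + j) :=
      ⟨Function.argmin (fun j => h (max nK nQ + j)), fun j => Function.argmin_le (fun j => h (max nK nQ + j)) j⟩
    exact ⟨max nK nQ + m, by omega, le_antisymm (hanti _ (by omega)) (hm (m + 1))⟩
  obtain ⟨n, hn, hn'⟩ := hex
  have hinj : Function.Injective (hMap (k := k) ((ProjFormLib.tF (T n)).map φ) 1) := by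
    haveI := hfin n
    haveI : Module.Finite k (Coh.HH X (tens (T n) N) 1) :=
      CurvLib.finite_HH (CurvLib.isCoh_of_isInvertible (hTn (n + 1))) 1
    refine (LinearMap.injective_iff_surjective_of_finrank_eq_finrank ?_).mpr (hsur1 n (le_of_max_le_right hn))
    exact (hOh n).trans hn'.symm
  have hs1 := surjective_h0 (k := k) (hSn n) (Or.inr hinj)
  have hs2 := surjective_h0 (k := k) (hS'n n) (Or.inl (hnK n (le_of_max_le_left hn) 1 one_pos))
  have hCn : Coh.IsCoh (tens (T n) C) :=
    QCohLib.isCoh_of_iso (HilbPolyLib.swapIso C (T n)) (SerreVanLib.isCoh_tensor hqCoh (hTn n))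
  have hdim : topologicalKrullDim (CohB1.support (tens (T n) C)) ≤ 0 := by
    rw [hsupp _ (hTn n)]
    haveI : DiscreteTopology ({x} : Set X) := inferInstance
    exact topologicalKrullDim_zero_of_discreteTopology _
  obtain ⟨z, hz⟩ : ∃ z : Coh.HH X (tens (T n) C) 0, z ≠ 0 := by
    by_contra hc
    push Not at hc
    haveI : Subsingleton (Coh.HH X (tens (T n) C) 0) := ⟨fun a b => (hc a).trans (hc b).symm⟩
    have hz := CurvLib.isZero_of_h0 (k := k) hCn hdim Module.finrank_zero_of_subsingleton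
    have hmem : x ∈ CohB1.support (tens (T n) C) := (hsupp _ (hTn n)).ge rfl
    exact hmem ((ModuleCat.subsingleton_of_isZero ((St x).map_isZero hz)))
  obtain ⟨y₁, rfl⟩ := hs2 z
  obtain ⟨y₀, rfl⟩ := hs1 y₁
  letI := CurvLib.secModule (k := k) (tens (T n) N)
  letI := CurvLib.secModule (k := k) (tens (T n) C)
  refine ⟨n + 1, CurvLib.hhZeroEquiv (k := k) (tens (T n) N) y₀, n.succ_pos, ?_⟩
  let t : Γ(tens (T n) N, ⊤) := CurvLib.hhZeroEquiv (k := k) (tens (T n) N) y₀
  let g : tens (T n) N ⟶ tens (T n) C := (ProjFormLib.tF (T n)).map β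
  refine genAt_of_not_killed (hTn (n + 1)) g (hkill _ (hTn n)) t ?_
  have hgt : g.app ⊤ t ≠ 0 := by
    intro h0
    refine hz ((CurvLib.hhZeroEquiv (k := k) (tens (T n) C)).injective ?_)
    refine Eq.trans (congrArg _ ?_) ((hhZeroEquiv_map (k := k) g y₀).trans (h0.trans (map_zero _).symm))
    refine Eq.trans (CurvLib.hMap_comp (k := k) ((ProjFormLib.tF (T n)).map (cokernel.π φ))
      ((ProjFormLib.tF (T n)).map γ) 0 y₀).symm ?_
    exact congrArg (fun ψ => hMap (k := k) ψ 0 y₀)
      (((ProjFormLib.tF (T n)).map_comp _ _).symm.trans (congrArg _ (cokernel.π_desc φ β hβ0)))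
  intro h0
  refine hgt (TopCat.Presheaf.section_ext
    ((QCohLib.toAbF X).obj (tens (T n) C) : TopCat.Sheaf AddCommGrpCat _) ⊤ _ 0 fun y _ => ?_)
  by_cases hy : y = x
  · subst hy
    exact (gm_app g y _ t).symm.trans (h0.trans (gm_zero _ y (show y ∈ (⊤ : X.Opens) from trivial)).symm)
  · have hs : Subsingleton ((St y).obj (tens (T n) C)) :=
      not_not.mp fun hh => hy ((hsupp _ (hTn n)).le hh)
    exact @Subsingleton.elim _ hs _ _

end NakaiLib
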