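import Groth.Agent.NakaiLib.Gen
import Groth.Agent.AmpleThLib.ToPn
import Groth.Agent.AmpleThLib.Ample
import Groth.Agent.AmpleThLib.Embed
import Groth.Agent.S4374
import Mathlib.AlgebraicGeometry.ZariskisMainTheorem

/-!
# Generated modules that are ample on all proper closed subschemes
-/

set_option autoImplicit false
set_option linter.style.haveILetI false
universe u

open CategoryTheory CategoryTheory.Limits AlgebraicGeometry TopologicalSpace
open KFlatLib (pb)
open ChowLib AmpleLib RelProjLib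
open AmpleThLib (tensorPow_isInvertible Pk isAffineOpen_Pk)
open TwistLib (genSet)

noncomputable section

namespace NakaiLib

variable {X : Scheme.{u}} {k : Type u} [Field k] [X.Over (Spec (CommRingCat.of k))]
  [IsProper (X ↘ Spec (CommRingCat.of k))]

include k in
theorem exists_gens [Nonempty X] {N : X.Modules} (hN : PicF.IsInvertible N)
    (h : ∀ x : X, IsClosed ({x} : Set X) → ∃ (a : ℕ) (t : Γ(CohB1.tensorPow N a, ⊤)), 0 < a ∧
      x ∈ genSet (tensorPow_isInvertible hN a) t) :
    ∃ (a m : ℕ) (v : Fin (m + 1) → Γ(CohB1.tensorPow N a, ⊤)), 0 < a ∧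
      ∀ y : X, ∃ i, y ∈ genSet (tensorPow_isInvertible hN a) (v i) := by
  classical
  haveI := CurvLib.isNoetherian k (X := X)
  choose a t ha ht using h
  let ι := {x : X // IsClosed ({x} : Set X)}
  let U : ι → X.Opens := fun x => genSet (tensorPow_isInvertible hN (a x.1 x.2)) (t x.1 x.2)
  have hcov : (Set.univ : Set X) ⊆ ⋃ x, (U x : Set X) := fun y _ => by
    obtain ⟨z, hz, hzc⟩ := IsClosed.exists_closed_singleton (isClosed_closure (s := ({y} : Set X)))
      ⟨y, subset_closure rfl⟩
    exact Set.mem_iUnion.mpr ⟨⟨z, hzc⟩, (specializes_iff_mem_closure.mpr hz).mem_open (U ⟨z, hzc⟩).2 (ht z hzc)⟩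
  obtain ⟨S, hS⟩ := isCompact_univ.elim_finite_subcover (fun x => (U x : Set X)) (fun x => (U x).2) hcov
  let A := ∏ x ∈ S, a x.1 x.2
  have hex : ∀ y : X, ∃ s : Γ(CohB1.tensorPow N A, ⊤), y ∈ genSet (tensorPow_isInvertible hN A) s ∧
      ∃ x ∈ S, U x ≤ genSet (tensorPow_isInvertible hN A) s := by
    intro y
    obtain ⟨x, hx, hy⟩ := Set.mem_iUnion₂.mp (hS (Set.mem_univ y))
    obtain ⟨c, hc⟩ := Finset.dvd_prod_of_mem (fun x : ι => a x.1 x.2) hx
    have hg := AmpleThLib.tPow_genOn hN (t x.1 x.2) (V := U x) le_rfl c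
    obtain ⟨s, hs⟩ : ∃ s : Γ(CohB1.tensorPow N A, ⊤), U x ≤ genSet (tensorPow_isInvertible hN A) s := by
      rw [show A = a x.1 x.2 * c from hc]
      exact ⟨AmpleThLib.tPow hN (t x.1 x.2) c, fun z hz =>
        (AmpleLib.genAt_res (le_top : U x ≤ ⊤) _ hz).mp (hg.genAt hz)⟩
    exact ⟨s, hs hy, x, hx, hs⟩
  choose s hs x hxS hle using hex
  -- one section for each member of the subcover
  have hex' : ∀ x ∈ S, ∃ s : Γ(CohB1.tensorPow N A, ⊤), U x ≤ genSet (tensorPow_isInvertible hN A) s := by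
    intro x hx
    obtain ⟨c, hc⟩ := Finset.dvd_prod_of_mem (fun x : ι => a x.1 x.2) hx
    have hg := AmpleThLib.tPow_genOn hN (t x.1 x.2) (V := U x) le_rfl c
    rw [show A = a x.1 x.2 * c from hc]
    exact ⟨AmpleThLib.tPow hN (t x.1 x.2) c, fun z hz =>
      (AmpleLib.genAt_res (le_top : U x ≤ ⊤) _ hz).mp (hg.genAt hz)⟩
  choose w hw using hex'
  obtain ⟨m, hm⟩ : ∃ m, S.card = m + 1 := by
    obtain ⟨y⟩ := ‹Nonempty X›
    exact ⟨S.card - 1, (Nat.sub_add_cancel (Finset.card_pos.mpr ⟨x y, hxS y⟩)).symm⟩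
  let e : Fin (m + 1) ≃ S := (finCongr hm.symm).trans S.equivFin.symm
  refine ⟨A, m, fun i => w (e i).1 (e i).2, Finset.prod_pos fun x _ => ha _ _, fun y => ?_⟩
  obtain ⟨x₀, hx₀, hy⟩ := Set.mem_iUnion₂.mp (hS (Set.mem_univ y))
  refine ⟨e.symm ⟨x₀, hx₀⟩, ?_⟩
  have := hw x₀ hx₀ hy
  simpa using this

include k in
/-- A nowhere constant generated module that is ample on proper closed subschemes is ample. -/
theorem isAmple_of_gens {M : X.Modules} (hM : PicF.IsInvertible M) (hb : AmpleBelow M)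
    (htriv : IsEmpty (Coh.structureModule X ≅ M)) {m : ℕ} (v : Fin (m + 1) → Γ(M, ⊤))
    (hgen : ∀ y : X, ∃ i, y ∈ genSet hM (v i)) : CohB1.IsAmple M := by
  haveI := CurvLib.isNoetherian k (X := X)
  let q := X ↘ Spec (CommRingCat.of k)
  obtain ⟨r, -, hr, -⟩ := AmpleThLib.exists_toPZ hM v hgen
  let S := Spec (CommRingCat.of k)
  let i : X ⟶ CohB1.ProjSpaceOver m S := poLift r q
  let pr := CohB1.ProjSpaceOver.toBase m S
  have hi₂ : i ≫ pr = q := pullback.lift_snd _ _ _
  have hi₁ : i ≫ toPZ m S = r := pullback.lift_fst _ _ _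
  haveI : IsSeparated pr := inferInstanceAs (IsSeparated (pullback.snd _ _))
  haveI : IsProper (i ≫ pr) := by rw [hi₂]; infer_instance
  haveI : IsProper i := IsProper.of_comp i pr
  have hPk : ∀ j, i ⁻¹ᵁ Pk S j = genSet hM (v j) := fun j => by
    rw [← hr j, ← hi₁]; rfl
  have hclosed : ∀ x : X, IsClosed ({x} : Set X) → x ∈ i.quasiFiniteLocus := by
    intro x hx
    rw [Scheme.Hom.mem_quasiFiniteLocus, Scheme.Hom.quasiFiniteAt_iff_isOpen_singleton_asFiber]
    let T : Closeds X := ⟨i ⁻¹' {i x}, by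
      have : IsClosed (i '' {x}) := i.isClosedMap _ hx
      rw [Set.image_singleton] at this
      exact this.preimage i.continuous⟩
    let J := Scheme.IdealSheafData.vanishingIdeal T
    let l := J.subschemeι
    have hl : Set.range l = i ⁻¹' {i x} :=
      J.range_subschemeι.trans (Scheme.IdealSheafData.coe_support_vanishingIdeal T)
    obtain ⟨j, hj⟩ := hgen x
    have hTj : ∀ y : X, i y = i x → y ∈ genSet hM (v j) := fun y hy => by
      rw [← hPk j] at hj ⊢
      change i y ∈ Pk S j
      rw [hy]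
      exact hj
    have hne : Set.range l ≠ Set.univ := fun h => htriv.false (by
      have htop : genSet hM (v j) = ⊤ :=
        eq_top_iff.mpr fun y _ => hTj y (hl.le (h.ge (Set.mem_univ y)))
      have hg : GenOn M (v j) := TwistLib.genOn_of_genAt fun y hy =>
        (show y ∈ genSet hM (v j) by rw [htop]; trivial)
      haveI := AmpleLib.isIso_unitHom (v j) hg
      exact asIso (QCohLib.unitHom M (v j)))
    let Y := J.subscheme
    haveI : IsProper (l ≫ q) := inferInstance
    have hA := isAmple_pb_of_range (k := k) hM hb l hne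
    have hlM := AmpleDevLib.isInvertible_pb l hM
    -- the restriction is trivial
    let s : Γ(pb l M, ⊤) := KFlatLib.puSec l (v j)
    have hgY : GenOn (pb l M) s := TwistLib.genOn_of_genAt fun y _ => by
      have h1 : l y ∈ genSet hM (v j) := hTj _ (hl.le ⟨y, rfl⟩)
      exact TwistLib.GenAt.puSec l h1
    haveI := AmpleLib.isIso_unitHom s hgY
    have hO : CohB1.IsAmple (Coh.structureModule Y) :=
      AmpleDevLib.isAmple_of_iso hlM CurvLib.isInvertible_structureModule
        (asIso (QCohLib.unitHom (pb l M) s)).symm hA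
    haveI : CompactSpace Y := hA.2.1
    haveI : Y.IsQuasiAffine := Groth.Agent.S4374.result Y _ _ ⟨HilbPolyLib.unitLeft _⟩ hO hO
    haveI : IsProper Y.toSpecΓ := by
      haveI : IsProper (Y.toSpecΓ ≫ Spec.map (l ≫ q).appTop) := by
        rw [← Scheme.toSpecΓ_naturality]
        haveI : IsIso (Spec (CommRingCat.of k)).toSpecΓ := inferInstance
        infer_instance
      exact IsProper.of_comp _ (Spec.map (l ≫ q).appTop)
    haveI : IsClosedImmersion Y.toSpecΓ :=
      IsClosedImmersion.of_isPreimmersion _ Y.toSpecΓ.isClosedMap.isClosed_range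
    haveI : IsAffine Y := isAffine_of_isAffineHom Y.toSpecΓ
    letI : Y.Over (Spec (CommRingCat.of k)) := ⟨l ≫ q⟩
    haveI : IsProper (Y ↘ Spec (CommRingCat.of k)) := inferInstanceAs (IsProper (l ≫ q))
    haveI : IsFinite (Y ↘ Spec (CommRingCat.of k)) :=
      IsFinite.iff_isProper_and_isAffineHom.mpr ⟨inferInstance, inferInstance⟩
    haveI : IsLocallyArtinian (Spec (CommRingCat.of k)) :=
      Scheme.isLocallyArtinianScheme_Spec.mpr inferInstance
    haveI : IsLocallyArtinian Y := IsLocallyArtinian.of_locallyQuasiFinite (Y ↘ Spec (CommRingCat.of k))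
    haveI : DiscreteTopology Y := inferInstance
    have hdisc : _root_.IsDiscrete (i ⁻¹' {i x}) := by
      rw [← hl, ← Set.image_univ]
      exact (isDiscrete_univ_iff.mpr inferInstance).image l.isEmbedding.toIsInducing
    haveI := hdisc.to_subtype
    rw [← (i.fiberHomeo (i x)).isOpen_image]
    exact isOpen_discrete _
  haveI : LocallyQuasiFinite i := by
    rw [← Scheme.Hom.quasiFiniteLocus_eq_top_iff, eq_top_iff]
    intro y _
    obtain ⟨z, hz, hzc⟩ := IsClosed.exists_closed_singleton (isClosed_closure (s := ({y} : Set X)))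
      ⟨y, subset_closure rfl⟩
    exact (specializes_iff_mem_closure.mpr hz).mem_open i.quasiFiniteLocus.2 (hclosed z hzc)
  haveI : IsFinite i := IsFinite.of_isProper_of_locallyQuasiFinite i
  refine (AmpleThLib.isAmple_iff (hL := hM)).mpr ⟨inferInstance, fun x => ?_⟩
  obtain ⟨j, hj⟩ := hgen x
  let e : M ≅ CohB1.tensorPow M 1 := (HilbPolyLib.unitLeft M).symm
  refine ⟨1, genSet hM (v j), Nat.one_pos, ⟨e.hom.app ⊤ (v j), AmpleThLib.genSet_iso hM _ e _⟩, hj, ?_⟩
  rw [← hPk j]
  exact (isAffineOpen_Pk S j).preimage i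

end NakaiLib
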