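import Groth.Agent.AmpleDevLib.Components
import Groth.Agent.CurvLib.Euler
import Groth.Agent.CurvLib.RRBasic
import Groth.Agent.DevissLib.Induction
import Groth.Agent.DevissLib.AnnIdeal
import Groth.Agent.DevissLib.KilledImm
import Groth.Agent.IntMultLib.Asymp

/-!
# Stabilization of the higher cohomology of high powers
-/

set_option autoImplicit false
set_option linter.style.haveILetI false
universe u

open CategoryTheory CategoryTheory.Limits AlgebraicGeometry TopologicalSpace
open KFlatLib (pb tens)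
open CurvLib (hMap hDel)
open DevissLib

noncomputable section

namespace NakaiLib

variable {X : Scheme.{u}}

/-- Every closed subscheme that does not fill `X` has ample restriction of `L`. -/
def AmpleBelow (L : X.Modules) : Prop :=
  ∀ (W : Scheme.{u}) (i : W ⟶ X), IsClosedImmersion i → IsIntegral W →
    Set.range i ≠ Set.univ → CohB1.IsAmple (pb i L)

variable {k : Type u} [Field k] [X.Over (Spec (CommRingCat.of k))]
  [IsProper (X ↘ Spec (CommRingCat.of k))]

include k in
theorem isAmple_pb_of_range {L : X.Modules} (hL : PicF.IsInvertible L) (hb : AmpleBelow L) {Y : Scheme.{u}}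
    (i : Y ⟶ X) [IsClosedImmersion i] (hr : Set.range i ≠ Set.univ) : CohB1.IsAmple (pb i L) := by
  refine AmpleDevLib.isAmple_of_integral (i ≫ (X ↘ Spec (CommRingCat.of k)))
    (AmpleDevLib.isInvertible_pb i hL) fun W l hl hW => ?_
  haveI := hl
  refine AmpleDevLib.isAmple_of_iso (AmpleDevLib.isInvertible_pb (l ≫ i) hL)
    (AmpleDevLib.isInvertible_pb l (AmpleDevLib.isInvertible_pb i hL))
    ((Scheme.Modules.pullbackComp l i).app L).symm (hb W (l ≫ i) inferInstance hW fun h => hr ?_)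
  exact Set.eq_univ_of_forall fun x => by
    obtain ⟨w, rfl⟩ := h.ge (Set.mem_univ x)
    exact ⟨l w, rfl⟩

include k in
theorem evVanish_of_notMem [IsIntegral X] {L : X.Modules} (hL : PicF.IsInvertible L) (hb : AmpleBelow L)
    {G : X.Modules} (hG : Coh.IsCoh G) (hη : genericPoint X ∉ CohB1.support G) :
    AmpleDevLib.EvVanish L G := by
  haveI := CurvLib.isNoetherian k (X := X)
  haveI : Coh.IsQCoh G := hG.1
  let I := annIdeal G hG.2
  let i := I.subschemeι
  have hr : Set.range i ≠ Set.univ := by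
    rw [I.range_subschemeι, support_annIdeal G hG.2]
    exact fun h => hη (h ▸ Set.mem_univ _)
  have hk : ClSub.KilledByIdeal i.ker G := by
    rw [Scheme.IdealSheafData.ker_subschemeι]
    exact killed_annIdeal G hG.2
  obtain ⟨G', hG', ⟨e⟩⟩ := exists_coh_of_killed i hG hk
  exact AmpleDevLib.evVanish_of_iso e.symm
    (AmpleDevLib.evVanish_push i (i ≫ (X ↘ Spec (CommRingCat.of k))) hL
      (isAmple_pb_of_range (k := k) hL hb i hr) G' hG')

/-! ### Long exact sequence -/

omit [IsProper (X ↘ Spec (CommRingCat.of k))] in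
theorem finrank_eq_of_right {S : ShortComplex X.Modules} (hS : S.ShortExact) (i : ℕ)
    (h₀ : Subsingleton (Coh.HH X S.X₃ i)) (h₁ : Subsingleton (Coh.HH X S.X₃ (i + 1))) :
    Module.finrank k (Coh.HH X S.X₁ (i + 1)) = Module.finrank k (Coh.HH X S.X₂ (i + 1)) := by
  refine (LinearEquiv.ofBijective (hMap (k := k) S.f (i + 1)) ⟨?_, ?_⟩).finrank_eq
  · rw [← LinearMap.ker_eq_bot, ← CurvLib.exact₁ hS i, LinearMap.range_eq_bot]
    exact LinearMap.ext fun x => by rw [Subsingleton.elim x 0, map_zero, map_zero]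
  · rw [← LinearMap.range_eq_top, CurvLib.exact₂ hS (i + 1), LinearMap.ker_eq_top]
    exact LinearMap.ext fun x => Subsingleton.elim _ _

omit [IsProper (X ↘ Spec (CommRingCat.of k))] in
theorem finrank_eq_of_left {S : ShortComplex X.Modules} (hS : S.ShortExact) (i : ℕ)
    (h₀ : Subsingleton (Coh.HH X S.X₁ i)) (h₁ : Subsingleton (Coh.HH X S.X₁ (i + 1))) :
    Module.finrank k (Coh.HH X S.X₂ i) = Module.finrank k (Coh.HH X S.X₃ i) := by
  refine (LinearEquiv.ofBijective (hMap (k := k) S.g i) ⟨?_, ?_⟩).finrank_eq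
  · rw [← LinearMap.ker_eq_bot, ← CurvLib.exact₂ hS i, LinearMap.range_eq_bot]
    exact LinearMap.ext fun x => by rw [Subsingleton.elim x 0, map_zero, map_zero]
  · rw [← LinearMap.range_eq_top, CurvLib.exact₃ hS i, LinearMap.ker_eq_top]
    exact LinearMap.ext fun x => Subsingleton.elim _ _

variable (k) in
/-- Higher cohomology dimensions of high twists agree. -/
def EvEq (L A B : X.Modules) : Prop :=
  ∃ n₀, ∀ n, n₀ ≤ n → ∀ i, 2 ≤ i →
    Module.finrank k (Coh.HH X (tens (CohB1.tensorPow L n) A) i) =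
      Module.finrank k (Coh.HH X (tens (CohB1.tensorPow L n) B) i)

theorem evEq_of_bij [IsIntegral X] {L : X.Modules} (hL : PicF.IsInvertible L) (hb : AmpleBelow L)
    {A B : X.Modules} (hA : Coh.IsCoh A) (hB : Coh.IsCoh B) (φ : A ⟶ B)
    (h : Function.Bijective ((St (genericPoint X)).map φ).hom) : EvEq k L A B := by
  haveI := CurvLib.isNoetherian k (X := X)
  obtain ⟨a, ha⟩ := evVanish_of_notMem (k := k) hL hb (QCohLib.isCoh_kernel φ hA hB.1)
    (notMem_support_kernel φ _ h.1)
  obtain ⟨b, hb'⟩ := evVanish_of_notMem (k := k) hL hb (QCohLib.isCoh_cokernel φ hA.1 hB)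
    (notMem_support_cokernel φ _ h.2)
  refine ⟨max a b, fun n hn i hi => ?_⟩
  obtain ⟨j, rfl⟩ : ∃ j, i = j + 1 := ⟨i - 1, by omega⟩
  have hT := AmpleDevLib.isFinLocFree_of_isInvertible (AmpleThLib.tensorPow_isInvertible hL n)
  have h1 := ProjFormLib.shortExact_tens hT (kerImSeq_shortExact φ)
  have h2 := ProjFormLib.shortExact_tens hT (imCokSeq_shortExact φ)
  exact (finrank_eq_of_left (k := k) h1 (j + 1) (ha n (le_of_max_le_left hn) _ (by omega))
    (ha n (le_of_max_le_left hn) _ (by omega))).trans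
    (finrank_eq_of_right (k := k) h2 j (hb' n (le_of_max_le_right hn) _ (by omega))
      (hb' n (le_of_max_le_right hn) _ (by omega)))

theorem exists_stable [IsIntegral X] {L : X.Modules} (hL : PicF.IsInvertible L) (hb : AmpleBelow L) :
    ∃ n₀, ∀ n, n₀ ≤ n → ∀ i, 2 ≤ i →
      Module.finrank k (Coh.HH X (CohB1.tensorPow L n) i) =
        Module.finrank k (Coh.HH X (CohB1.tensorPow L n₀) i) := by
  haveI := CurvLib.isNoetherian k (X := X)
  have hO := isCoh_structureModule X
  have hLc := CurvLib.isCoh_of_isInvertible hL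
  have hgen : ∀ y : X, y ⤳ genericPoint X → y = genericPoint X := fun y hy =>
    (hy.antisymm ((genericPoint_spec X).specializes trivial)).eq
  obtain ⟨W, g, hW, hg⟩ : ∃ (W : X.Opens) (g : Γ(L, W)), genericPoint X ∈ W ∧ AmpleLib.GenOn L g :=
    TwistLib.exists_genOn hL _
  obtain ⟨-, -, ⟨e⟩⟩ := push_generic (𝟙 X) (Coh.structureModule X) hO W ⟨_, hW⟩
    (fun V _ => exists_gen_structureModule V)
  have hsupp : genericPoint X ∈ CohB1.support L := (mem_support_iff_nonzero L _).mpr ⟨gm L _ hW g, fun h0 => by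
    have := (hg.genAt hW).1 (a₁ := (1 : X.presheaf.stalk (genericPoint X))) (a₂ := 0)
      (show (1 : X.presheaf.stalk (genericPoint X)) • gm L _ hW g = (0 : X.presheaf.stalk _) • gm L _ hW g by
        rw [h0]; exact (smul_zero _).trans (smul_zero _).symm)
    exact one_ne_zero this⟩
  obtain ⟨H, p₁, p₂, hH, -, hbij, hinj, a, ha⟩ := exists_bridge hO hLc (η := genericPoint X)
    (fun y _ => hgen y) (fun y _ => hgen y) e hsupp
  have hbij₂ : Function.Bijective ((St (genericPoint X)).map p₂).hom := by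
    refine ⟨hinj, fun b => ?_⟩
    obtain ⟨s, hs⟩ := (hg.genAt hW).2 (((St (genericPoint X)).map p₂).hom a)
    obtain ⟨t, ht⟩ := (hg.genAt hW).2 b
    have hs0 : s ≠ 0 := fun h => ha (by rw [← hs, h]; exact zero_smul _ _)
    dsimp only at hs ht
    refine ⟨(t * s⁻¹) • a, (map_smul _ _ _).trans ((congrArg ((t * s⁻¹) • ·) hs.symm).trans ?_)⟩
    exact (smul_smul _ _ _).trans ((congrArg (· • _) (by rw [mul_assoc, inv_mul_cancel₀ hs0, mul_one])).trans ht)
  obtain ⟨n₁, h₁⟩ := evEq_of_bij (k := k) hL hb hH hO p₁ hbij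
  obtain ⟨n₂, h₂⟩ := evEq_of_bij (k := k) hL hb hH hLc p₂ hbij₂
  refine ⟨max n₁ n₂, fun n hn => ?_⟩
  induction n, hn using Nat.le_induction with
  | base => exact fun _ _ => rfl
  | succ n hn ih =>
    intro i hi
    refine Eq.trans ?_ (ih i hi)
    refine ((h₂ n (le_of_max_le_right hn) i hi).symm.trans (h₁ n (le_of_max_le_left hn) i hi)).trans ?_
    exact (CurvLib.hIso (k := k) (HilbPolyLib.swapIso (CohB1.tensorPow L n) (Coh.structureModule X) ≪≫
      HilbPolyLib.unitLeft (CohB1.tensorPow L n)) i).finrank_eq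

/-- If `χ(L^n)` is unbounded, some power has a nonzero section. -/
theorem exists_section [IsIntegral X] {L : X.Modules} (hL : PicF.IsInvertible L) (hb : AmpleBelow L)
    (hgrow : ∀ C : ℤ, ∃ N, ∀ n, N ≤ n → C < Curv2.euler k X (CohB1.tensorPow L n)) :
    ∃ (n : ℕ) (φ : Coh.structureModule X ⟶ CohB1.tensorPow L n), 0 < n ∧ φ ≠ 0 := by
  obtain ⟨n₀, h₀⟩ := exists_stable (k := k) hL hb
  obtain ⟨D, hD⟩ := CurvLib.exists_bound k (X := X)
  let f : ℕ → ℕ → ℤ := fun n i => (-1 : ℤ) ^ i * (Module.finrank k (Coh.HH X (CohB1.tensorPow L n) i) : ℤ)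
  have hsum : ∀ n, Curv2.euler k X (CohB1.tensorPow L n) =
      f n 0 + f n 1 + ∑ i ∈ Finset.range D, f n (i + 2) := by
    intro n
    rw [CurvLib.euler_eq_sum (d := D + 2) fun m hm => hD _
      (CurvLib.isCoh_of_isInvertible (AmpleThLib.tensorPow_isInvertible hL n)).1 m (by omega),
      Finset.sum_range_succ', Finset.sum_range_succ']
    simp only [f]
    ring
  obtain ⟨N, hN⟩ := hgrow (∑ i ∈ Finset.range D, f n₀ (i + 2))
  let n := max (max N n₀) 1
  have h1 := hN n (le_max_of_le_left (le_max_left _ _))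
  rw [hsum] at h1
  have h2 : ∑ i ∈ Finset.range D, f n (i + 2) = ∑ i ∈ Finset.range D, f n₀ (i + 2) :=
    Finset.sum_congr rfl fun i _ => by
      simp only [f, h₀ n (le_max_of_le_left (le_max_right _ _)) (i + 2) (by omega)]
  have h3 : 0 < Module.finrank k (Coh.HH X (CohB1.tensorPow L n) 0) := by
    rw [h2] at h1
    simp only [f, pow_zero, pow_one, one_mul, neg_mul] at h1
    omega
  haveI : Nontrivial (Coh.HH X (CohB1.tensorPow L n) 0) := Module.nontrivial_of_finrank_pos h3
  obtain ⟨φ, hφ⟩ := CurvLib.exists_hom_ne_zero (L := CohB1.tensorPow L n) inferInstance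
  exact ⟨n, φ, lt_of_lt_of_le Nat.zero_lt_one (le_max_right _ _), hφ⟩

end NakaiLib
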